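import Groth.Agent.SqZeroMod7.Basic
import Groth.Agent.CurveCover.Line
import Groth.Agent.Pic13Lib.IntNum
import Groth.Agent.Pic13Lib.Bdd.Gen
import Groth.Agent.Lib.CurveRR
import Groth.Agent.Lib.InvEnd
import Groth.Agent.S4466
import Groth.Agent.PnCoh.Finite.TwistInv
import Groth.Agent.Synt29.PnEuler

/-!
Euler characteristics on ribbons over the projective line.
-/

set_option autoImplicit false
set_option linter.style.haveILetI false
set_option linter.unusedSectionVars false
set_option backward.isDefEq.respectTransparency false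
set_option backward.isDefEq.respectTransparency.types false
set_option maxHeartbeats 800000

universe u

open CategoryTheory CategoryTheory.Limits AlgebraicGeometry TopologicalSpace Opposite

noncomputable section

namespace Groth.Agent.Ribbon18

open Groth.Agent

/-- Pullback along an isomorphism is the direct image along its inverse. -/
def pullbackIsoPush {A B : Scheme.{u}} (e : A ≅ B) :
    Scheme.Modules.pullback e.hom ≅ Scheme.Modules.pushforward e.inv :=
  (Scheme.Modules.pullbackPushforwardAdjunction e.hom).leftAdjointUniq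
    (CategoryTheory.Equivalence.mk (Scheme.Modules.pushforward e.inv) (Scheme.Modules.pushforward e.hom)
      ((Scheme.Modules.pushforwardId B).symm ≪≫ Scheme.Modules.pushforwardCongr e.inv_hom_id.symm ≪≫
        (Scheme.Modules.pushforwardComp e.inv e.hom).symm)
      (Scheme.Modules.pushforwardComp e.hom e.inv ≪≫ Scheme.Modules.pushforwardCongr e.hom_inv_id ≪≫
        Scheme.Modules.pushforwardId A)).toAdjunction

variable (k : Type u) [Field k]

/-- `χ(O(a)) = a + 1` on the projective line. -/
theorem euler_twist_line (a : ℤ) :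
    Curv2.euler k (CohB1.ProjSpace 1 k) (Twist.twistProjSpace 1 k a) = a + 1 := by
  haveI := CurveCover.isProper_line k
  haveI := CurveCover.isIntegral_line k
  have h := S4466.result k 1 one_pos a
  rw [Finset.sum_range_succ, Finset.sum_range_one] at h
  rw [CurveRR.euler_eq_h0_sub_h1 k (CurveCover.dim_line k).le
    (ProjUPX.isQCoh_of_isInvertible (CurveCover.isInvertible_twist k a))]
  simp only [pow_zero, _root_.one_mul, pow_one, Ring.choose_one_right] at h
  push_cast at h
  linarith

variable {k}
variable {C : Scheme.{u}} [C.Over (Spec (CommRingCat.of k))] [IsProper (C ↘ Spec (CommRingCat.of k))]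
  {I : C.IdealSheafData} (hI : I ^ 2 = ⊥) (e : I.subscheme ≅ CohB1.ProjSpace 1 k)
  (he : e.hom ≫ CohB1.ProjSpace.toSpec 1 k = I.subschemeι ≫ (C ↘ Spec (CommRingCat.of k)))

include he in
/-- Euler characteristics through the identification of the reduced curve with the line. -/
theorem euler_push_twist {N : I.subscheme.Modules} (a : ℤ)
    (τ : N ≅ (Scheme.Modules.pullback e.hom).obj (Twist.twistProjSpace 1 k a)) :
    Curv2.euler k C ((Scheme.Modules.pushforward I.subschemeι).obj N) = a + 1 := by
  letI : I.subscheme.Over (Spec (CommRingCat.of k)) := ⟨I.subschemeι ≫ (C ↘ Spec (CommRingCat.of k))⟩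
  haveI : IsProper (I.subscheme ↘ Spec (CommRingCat.of k)) :=
    inferInstanceAs (IsProper (I.subschemeι ≫ (C ↘ Spec (CommRingCat.of k))))
  let O := Twist.twistProjSpace 1 k a
  have hO : Coh.IsQCoh O := ProjUPX.isQCoh_of_isInvertible (CurveCover.isInvertible_twist k a)
  have hinv : e.inv ≫ (I.subscheme ↘ Spec (CommRingCat.of k)) = (CohB1.ProjSpace 1 k) ↘ Spec (CommRingCat.of k) := by
    show e.inv ≫ I.subschemeι ≫ (C ↘ Spec (CommRingCat.of k)) = _
    rw [← he, Iso.inv_hom_id_assoc]
    rfl
  have hN : Coh.IsQCoh N := ProjUPX.isQCoh_of_isInvertible (H23.PicMul.isInvertible_of_iso τ.symm (PicClLib.isInvertible_pullback _ (CurveCover.isInvertible_twist k a)))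
  refine (Pic13Lib.euler_push (k := k) I.subschemeι rfl hN).trans ?_
  rw [CurveCohLib.euler_congr (k := k) (τ ≪≫ (pullbackIsoPush e).app O)]
  exact (Pic13Lib.euler_push (k := k) e.inv hinv hO).trans (euler_twist_line k a)

include hI he in
/-- The Euler characteristic of an invertible module on a ribbon. -/
theorem euler_invertible (g : ℕ)
    (hc : Nonempty ((Scheme.Modules.pullback I.subschemeι).obj (ClSub.idealMod I) ≅
      (Scheme.Modules.pullback e.hom).obj (Twist.twistProjSpace 1 k (-((g : ℤ) + 1)))))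
    {L : C.Modules} (hL : PicF.IsInvertible L) (n : ℤ)
    (hLD : Nonempty ((Scheme.Modules.pullback I.subschemeι).obj L ≅
      (Scheme.Modules.pullback e.hom).obj (Twist.twistProjSpace 1 k n))) :
    Curv2.euler k C L = 2 * n + 1 - g := by
  haveI := CurveCohLib.isNoetherian_of_proper (k := k) (X := C)
  haveI : IsLocallyNoetherian I.subscheme := LocallyOfFiniteType.isLocallyNoetherian I.subschemeι
  obtain ⟨c⟩ := hc
  obtain ⟨l⟩ := hLD
  obtain ⟨κ, w, hS⟩ := SqZeroMod7.exists_shortExact I hI
    (KFlatLib.isFlat_of_isFinLocFree (Synt29.PnEuler.isFinLocFree_of_rank (InvEnd.isFinLocFreeOfRank_one hL)))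
  obtain ⟨t⟩ := Pic13Lib.Bdd.nonempty_pullback_tensor e.hom (Twist.twistProjSpace 1 k (-((g : ℤ) + 1)))
    (Twist.twistProjSpace 1 k n)
  obtain ⟨s⟩ := PnCoh.Finite.twist_tensor_iso (fun j : ULift.{u} (Fin (1 + 1)) => MvPolynomial.X j.down)
    (fun j => ProjPt.X_mem j.down) (by
      refine top_le_iff.1 ((AmpleEmbed.iSup_basicOpen_X 1 k).ge.trans (iSup_le fun j => ?_))
      exact le_iSup_of_le (ULift.up j) le_rfl) (-((g : ℤ) + 1)) n
  have τ : SqZeroMod7.coef I L ≅
      (Scheme.Modules.pullback e.hom).obj (Twist.twistProjSpace 1 k (-((g : ℤ) + 1) + n)) :=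
    ((DCoh.tensorBi.mapIso c).app _ ≪≫ (DCoh.tensorBi.obj _).mapIso l) ≪≫ t.symm ≪≫
      (Scheme.Modules.pullback e.hom).mapIso s
  have h1 := euler_push_twist e he _ τ
  have h3 := euler_push_twist e he _ l
  have hc2 : Coh.IsCoh L := CurveDeg.isCoh_of_isInvertible hL
  have hinv₁ : Coh.IsCoh (SqZeroMod7.coef I L) :=
    CurveDeg.isCoh_of_isInvertible (H23.PicMul.isInvertible_of_iso τ.symm
      (PicClLib.isInvertible_pullback _ (CurveCover.isInvertible_twist k _)))
  have hc3 : Coh.IsCoh ((Scheme.Modules.pullback I.subschemeι).obj L) :=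
    CurveDeg.isCoh_of_isInvertible (PicClLib.isInvertible_pullback _ hL)
  have := CurveCohLib.euler_additive (k := k) hS (QCoh.isCoh_push I.subschemeι hinv₁) hc2
    (QCoh.isCoh_push I.subschemeι hc3)
  rw [this]
  change Curv2.euler k C ((Scheme.Modules.pushforward I.subschemeι).obj (SqZeroMod7.coef I L)) +
    Curv2.euler k C ((Scheme.Modules.pushforward I.subschemeι).obj ((Scheme.Modules.pullback I.subschemeι).obj L)) = _
  rw [h1, h3]
  ring

/-- The trivial module restricts to `O(0)`. -/
theorem nonempty_pull_structure :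
    Nonempty ((Scheme.Modules.pullback I.subschemeι).obj (Coh.structureModule C) ≅
      (Scheme.Modules.pullback e.hom).obj (Twist.twistProjSpace 1 k 0)) := by
  obtain ⟨a⟩ := PicClLib.nonempty_pullback_structureModule I.subschemeι
  obtain ⟨b⟩ := PicClLib.nonempty_pullback_structureModule e.hom
  haveI := PnCoh.Finite.isIso_oneHom (𝒜 := CohB1.polyGrading 1 k)
    (fun j : ULift.{u} (Fin (1 + 1)) => MvPolynomial.X j.down) (fun j => ProjPt.X_mem j.down) (by
      refine top_le_iff.1 ((AmpleEmbed.iSup_basicOpen_X 1 k).ge.trans (iSup_le fun j => ?_))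
      exact le_iSup_of_le (ULift.up j) le_rfl)
  exact ⟨a ≪≫ b.symm ≪≫ (Scheme.Modules.pullback e.hom).mapIso
    (asIso (PnCoh.Finite.oneHom (𝒜 := CohB1.polyGrading 1 k)))⟩

end Groth.Agent.Ribbon18
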