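import Groth.Agent.Ribbon18.Euler
import Groth.Agent.CurveDual18.Serre
import Groth.Agent.GrLib8.PicH1.Units
import Groth.Agent.SeesawX.PicPn

/-!
The dualizing module of a ribbon over the projective line, restricted to the line.
-/

set_option autoImplicit false
set_option linter.style.haveILetI false
set_option linter.unusedSectionVars false
set_option backward.isDefEq.respectTransparency false
set_option backward.isDefEq.respectTransparency.types false
set_option maxHeartbeats 800000

universe u

open CategoryTheory CategoryTheory.Limits AlgebraicGeometry TopologicalSpace Opposite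

noncomputable section

namespace Groth.Agent.Ribbon18

open Groth.Agent

variable {k : Type u} [Field k] {C : Scheme.{u}} [C.Over (Spec (CommRingCat.of k))] [IsProper (C ↘ Spec (CommRingCat.of k))]
  {I : C.IdealSheafData} (hI : I ^ 2 = ⊥) (e : I.subscheme ≅ CohB1.ProjSpace 1 k)
  (he : e.hom ≫ CohB1.ProjSpace.toSpec 1 k = I.subschemeι ≫ (C ↘ Spec (CommRingCat.of k)))

include hI e in
/-- A ribbon over the line is one-dimensional. -/
theorem dim_eq_one : topologicalKrullDim C = 1 := by
  have hs : Function.Surjective I.subschemeι := GrLib8.PicH1.surjective_subschemeι (I := I) (by rw [← pow_two]; exact hI)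
  have h : IsHomeomorph I.subschemeι :=
    isHomeomorph_iff_isEmbedding_surjective.2 ⟨I.subschemeι.isClosedEmbedding.isEmbedding, hs⟩
  rw [← h.homeomorph.isHomeomorph.topologicalKrullDim_eq, (Scheme.homeoOfIso e).isHomeomorph.topologicalKrullDim_eq]
  exact CurveCover.dim_line k

/-- Invertible modules on a ribbon restrict to twists on the line. -/
theorem exists_pull_iso_twist {L : C.Modules} (hL : PicF.IsInvertible L) :
    ∃ m : ℤ, Nonempty ((Scheme.Modules.pullback I.subschemeι).obj L ≅
      (Scheme.Modules.pullback e.hom).obj (Twist.twistProjSpace 1 k m)) := by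
  obtain ⟨m, ⟨a⟩⟩ := SeesawX.PicPn.exists_iso_twist (n := 1) (R := k) _
    (PicClLib.isInvertible_pullback e.inv (PicClLib.isInvertible_pullback I.subschemeι hL))
  exact ⟨m, ⟨((Scheme.Modules.pullbackId _).app _).symm ≪≫
    (Scheme.Modules.pullbackCongr e.hom_inv_id.symm).app _ ≪≫
    ((Scheme.Modules.pullbackComp e.hom e.inv).app _).symm ≪≫ (Scheme.Modules.pullback e.hom).mapIso a⟩⟩

include hI he in
/-- An invertible dualizing module restricts to `O(g-1)`. -/
theorem restrict_dualizing (g : ℕ)
    (hc : Nonempty ((Scheme.Modules.pullback I.subschemeι).obj (ClSub.idealMod I) ≅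
      (Scheme.Modules.pullback e.hom).obj (Twist.twistProjSpace 1 k (-((g : ℤ) + 1)))))
    {ω : C.Modules} {t : Coh.HH C ω 1 →ₗ[k] k} (hω : Canon.IsRDualOver k C 1 ω t) (hinv : PicF.IsInvertible ω) :
    Nonempty ((Scheme.Modules.pullback I.subschemeι).obj ω ≅
      (Scheme.Modules.pullback e.hom).obj (Twist.twistProjSpace 1 k ((g : ℤ) - 1))) := by
  obtain ⟨m, hm⟩ := exists_pull_iso_twist e hinv
  have h1 := euler_invertible hI e he g hc hinv m hm
  have h2 := euler_invertible hI e he g hc (InvX.isInvertible_structureModule (X := C)) 0 (nonempty_pull_structure e)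
  have h3 := CurveDual18.euler_dualizing k hω (dim_eq_one hI e).le hinv
  rw [show (g : ℤ) - 1 = m by omega]
  exact hm

end Groth.Agent.Ribbon18
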