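import Groth.Agent.Ribbon18.Dualizing
import Groth.Agent.InvX.GenEpi
import Groth.Agent.ProjUPX.Affine
import Groth.Agent.Lib.GenLocusGG
import Groth.Agent.GGDesc7.Main
import Groth.Agent.S1647

/-!
Base points of the canonical series of a ribbon.
-/

set_option autoImplicit false
set_option linter.style.haveILetI false
set_option linter.unusedSectionVars false
set_option backward.isDefEq.respectTransparency false
set_option backward.isDefEq.respectTransparency.types false
set_option maxHeartbeats 1000000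

universe u

open CategoryTheory CategoryTheory.Limits AlgebraicGeometry TopologicalSpace Opposite
open Groth.Agent.PnCoh.Finite (mapLin)
open Groth.Agent.H23 Groth.Agent.H23.TrivBasic

noncomputable section

namespace Groth.Agent.Ribbon18

open Groth.Agent

/-- Invertible modules whose sections have covering loci are generated. -/
theorem gg_of_locus {X : Scheme.{u}} {L : X.Modules}
    (h : ∀ x : X, ∃ s : Γ(L, ⊤), x ∈ locus s) : Curv2.IsGloballyGenerated L :=
  InvX.isGloballyGenerated_of_generated (ι := Γ(L, ⊤)) (s := fun s => s)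
    (ProjUPX.generatedBy_of_frames _ fun x => by
      obtain ⟨s, hs⟩ := h x
      obtain ⟨U, hx, hU⟩ := mem_locus_iff.1 hs
      exact ⟨s, U, hx, hU⟩)

variable (k : Type u) [Field k]

/-- `O(n)` is generated by its sections on the line. -/
theorem gg_twist_line {n : ℤ} (hn : 0 ≤ n) : Curv2.IsGloballyGenerated (Twist.twistProjSpace 1 k n) := by
  haveI := CurveCover.isProper_line k
  haveI := CurveCohLib.isNoetherian_of_proper (k := k) (X := CohB1.ProjSpace 1 k)
  refine AmpleX.isGloballyGenerated_of_iso (KFlatLib.structureTensorIso (Twist.twistProjSpace 1 k n))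
    (S1647.result k 1 _ QCoh.isCoh_structureModule' n fun i h1 h2 => ?_)
  obtain rfl : i = 1 := le_antisymm h2 h1
  haveI := S0844.result k 1 (n - ((1 : ℕ) : ℤ)) 1 (fun h => absurd h.1 one_ne_zero)
    (fun h => absurd h.2 (by push_cast; omega))
  exact (CurveCohLib.hhEquiv (k := k)
    (KFlatLib.structureTensorIso (Twist.twistProjSpace 1 k (n - ((1 : ℕ) : ℤ)))) 1).toEquiv.subsingleton

theorem surjective_of_dims {V W : Type u} [AddCommGroup V] [Module k V] [AddCommGroup W] [Module k W] [FiniteDimensional k V]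
    (f : V →ₗ[k] W) (hf : Function.Injective f) {g : ℕ} (hg : 1 ≤ g) (hW : Module.finrank k W = g)
    (hV : g ≤ Module.finrank k V) : Function.Surjective f := by
  haveI : FiniteDimensional k W := Module.finite_of_finrank_pos (by omega)
  have hle := LinearMap.finrank_le_finrank_of_injective hf
  exact (LinearMap.injective_iff_surjective_of_finrank_eq_finrank (by omega)).1 hf

variable {k}
variable {C : Scheme.{u}} [C.Over (Spec (CommRingCat.of k))] [IsProper (C ↘ Spec (CommRingCat.of k))]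
  {I : C.IdealSheafData} (hI : I ^ 2 = ⊥) (e : I.subscheme ≅ CohB1.ProjSpace 1 k)
  (he : e.hom ≫ CohB1.ProjSpace.toSpec 1 k = I.subschemeι ≫ (C ↘ Spec (CommRingCat.of k)))

include he in
/-- Cohomology through the identification with the line. -/
theorem nonempty_hh_push {N : I.subscheme.Modules} (a : ℤ)
    (τ : N ≅ (Scheme.Modules.pullback e.hom).obj (Twist.twistProjSpace 1 k a)) (n : ℕ) :
    Nonempty (Coh.HH C ((Scheme.Modules.pushforward I.subschemeι).obj N) n ≃ₗ[k]
      Coh.HH (CohB1.ProjSpace 1 k) (Twist.twistProjSpace 1 k a) n) := by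
  letI : I.subscheme.Over (Spec (CommRingCat.of k)) := ⟨I.subschemeι ≫ (C ↘ Spec (CommRingCat.of k))⟩
  have hinv : e.inv ≫ (I.subscheme ↘ Spec (CommRingCat.of k)) = (CohB1.ProjSpace 1 k) ↘ Spec (CommRingCat.of k) := by
    show e.inv ≫ I.subschemeι ≫ (C ↘ Spec (CommRingCat.of k)) = _
    rw [← he, Iso.inv_hom_id_assoc]
    rfl
  have hN : Coh.IsQCoh N := ProjUPX.isQCoh_of_isInvertible
    (H23.PicMul.isInvertible_of_iso τ.symm (PicClLib.isInvertible_pullback _ (CurveCover.isInvertible_twist k a)))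
  obtain ⟨a₁⟩ := PnCoh.exists_linearEquiv_push k I.subschemeι rfl hN n
  obtain ⟨a₂⟩ := PnCoh.exists_linearEquiv_push k e.inv hinv
    (ProjUPX.isQCoh_of_isInvertible (CurveCover.isInvertible_twist k a)) n
  exact ⟨a₁.symm ≪≫ₗ CurveCohLib.hhEquiv (k := k) (τ ≪≫ (pullbackIsoPush e).app _) n ≪≫ₗ a₂.symm⟩

include hI he in
/-- The reduction sequence of an invertible module, with the twists on the line. -/
theorem exists_seq (g : ℕ)
    (hc : Nonempty ((Scheme.Modules.pullback I.subschemeι).obj (ClSub.idealMod I) ≅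
      (Scheme.Modules.pullback e.hom).obj (Twist.twistProjSpace 1 k (-((g : ℤ) + 1)))))
    {L : C.Modules} (hL : PicF.IsInvertible L) (n : ℤ)
    (hLD : Nonempty ((Scheme.Modules.pullback I.subschemeι).obj L ≅
      (Scheme.Modules.pullback e.hom).obj (Twist.twistProjSpace 1 k n))) :
    ∃ (κ : (SqZeroMod7.push I).obj (SqZeroMod7.coef I L) ⟶ L) (w : κ ≫ (SqZeroMod7.red I).app L = 0),
      (ShortComplex.mk κ ((SqZeroMod7.red I).app L) w).ShortExact ∧
      Nonempty (SqZeroMod7.coef I L ≅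
        (Scheme.Modules.pullback e.hom).obj (Twist.twistProjSpace 1 k (-((g : ℤ) + 1) + n))) := by
  obtain ⟨c⟩ := hc
  obtain ⟨l⟩ := hLD
  obtain ⟨κ, w, hS⟩ := SqZeroMod7.exists_shortExact I hI
    (KFlatLib.isFlat_of_isFinLocFree (Synt29.PnEuler.isFinLocFree_of_rank (InvEnd.isFinLocFreeOfRank_one hL)))
  obtain ⟨t⟩ := Pic13Lib.Bdd.nonempty_pullback_tensor e.hom (Twist.twistProjSpace 1 k (-((g : ℤ) + 1)))
    (Twist.twistProjSpace 1 k n)
  obtain ⟨s⟩ := PnCoh.Finite.twist_tensor_iso (fun j : ULift.{u} (Fin (1 + 1)) => MvPolynomial.X j.down)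
    (fun j => ProjPt.X_mem j.down) (by
      refine top_le_iff.1 ((AmpleEmbed.iSup_basicOpen_X 1 k).ge.trans (iSup_le fun j => ?_))
      exact le_iSup_of_le (ULift.up j) le_rfl) (-((g : ℤ) + 1)) n
  exact ⟨κ, w, hS, ⟨((DCoh.tensorBi.mapIso c).app _ ≪≫ (DCoh.tensorBi.obj _).mapIso l) ≪≫ t.symm ≪≫
      (Scheme.Modules.pullback e.hom).mapIso s⟩⟩

include hI e he in
/-- Sections lift from the line once the dimensions allow it. -/
theorem red_surjective_dualizing (g : ℕ) (hg : 1 ≤ g)
    (hc : Nonempty ((Scheme.Modules.pullback I.subschemeι).obj (ClSub.idealMod I) ≅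
      (Scheme.Modules.pullback e.hom).obj (Twist.twistProjSpace 1 k (-((g : ℤ) + 1)))))
    {ω : C.Modules} {t : Coh.HH C ω 1 →ₗ[k] k} (hω : Canon.IsRDualOver k C 1 ω t) (hinv : PicF.IsInvertible ω) :
    Function.Surjective (mapLin k ((SqZeroMod7.red I).app ω) 0) := by
  haveI := CurveCohLib.isNoetherian_of_proper (k := k) (X := C)
  obtain ⟨l⟩ := restrict_dualizing hI e he g hc hω hinv
  obtain ⟨κ, w, hS, ⟨τ⟩⟩ := exists_seq hI e he g hc hinv _ ⟨l⟩
  obtain ⟨a₁⟩ := nonempty_hh_push e he _ τ 0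
  obtain ⟨a₃⟩ := nonempty_hh_push e he _ l 0
  haveI := S0844.result k 1 (-((g : ℤ) + 1) + ((g : ℤ) - 1)) 0 (fun h => absurd h.2 (by omega))
    (fun h => absurd h.1.symm one_ne_zero)
  haveI : Subsingleton (Coh.HH C ((SqZeroMod7.push I).obj (SqZeroMod7.coef I ω)) 0) := a₁.toEquiv.subsingleton
  have hinj : Function.Injective (mapLin k ((SqZeroMod7.red I).app ω) 0) := by
    rw [← LinearMap.ker_eq_bot, eq_bot_iff]
    intro x hx
    obtain ⟨y, hy⟩ := (CurveCohLib.ker_mapLin_g k hS 0).le hx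
    rw [Submodule.mem_bot, ← hy, Subsingleton.elim y 0, map_zero]
  have hdim : Module.finrank k (Coh.HH C ((SqZeroMod7.push I).obj ((SqZeroMod7.pull I).obj ω)) 0) = g := by
    rw [a₃.finrank_eq, show (g : ℤ) - 1 = ((g - 1 : ℕ) : ℤ) by omega, CurveCover.finrank_h0_twist]
    omega
  have hne : 1 ≤ Module.finrank k (Coh.HH C (Coh.structureModule C) 0) := by
    haveI := CurveCohLib.finite_HH (k := k) (CurveDeg.isCoh_of_isInvertible (InvX.isInvertible_structureModule (X := C))) 0
    haveI := CurveCover.isIntegral_line k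
    haveI : Nonempty C := ⟨I.subschemeι (e.inv (genericPoint (CohB1.ProjSpace 1 k)))⟩
    haveI : Nonempty (⊤ : C.Opens) := ⟨⟨Classical.arbitrary C, trivial⟩⟩
    haveI : Nontrivial (Γ(C, ⊤) : Type u) := inferInstance
    haveI : Nontrivial (Coh.HH C (Coh.structureModule C) 0) :=
      @Equiv.nontrivial _ (Γ(C, ⊤) : Type u) ((Sheaf.H.equiv₀ (Coh.toAb (Coh.structureModule C)) isTerminalTop).toEquiv :
        Coh.HH C (Coh.structureModule C) 0 ≃ (Γ(C, ⊤) : Type u)) inferInstance
    exact Module.finrank_pos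
  have h1 := CurveDual18.finrank_h0_dualizing k hω
  have h2 := euler_invertible hI e he g hc (InvX.isInvertible_structureModule (X := C)) 0 (nonempty_pull_structure e)
  rw [NefH1.euler_eq k (dim_eq_one hI e).le QCoh.isQCoh_structureModule] at h2
  haveI : FiniteDimensional k (Coh.HH C ω 0) :=
    CurveCohLib.finite_HH (k := k) (CurveDeg.isCoh_of_isInvertible hinv) 0
  exact surjective_of_dims k (V := Coh.HH C ω 0)
    (W := Coh.HH C ((SqZeroMod7.push I).obj ((SqZeroMod7.pull I).obj ω)) 0)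
    (mapLin k ((SqZeroMod7.red I).app ω) 0) hinj hg hdim (by omega)

include hI e he in
/-- The canonical series of a ribbon of positive genus has no base points. -/
theorem gg_dualizing (g : ℕ) (hg : 1 ≤ g)
    (hc : Nonempty ((Scheme.Modules.pullback I.subschemeι).obj (ClSub.idealMod I) ≅
      (Scheme.Modules.pullback e.hom).obj (Twist.twistProjSpace 1 k (-((g : ℤ) + 1)))))
    {ω : C.Modules} {t : Coh.HH C ω 1 →ₗ[k] k} (hω : Canon.IsRDualOver k C 1 ω t) (hinv : PicF.IsInvertible ω) :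
    Curv2.IsGloballyGenerated ω := by
  refine gg_of_locus fun x => ?_
  obtain ⟨d, rfl⟩ := GrLib8.PicH1.surjective_subschemeι (I := I) (by rw [← pow_two]; exact hI) x
  obtain ⟨l⟩ := restrict_dualizing hI e he g hc hω hinv
  have hgg : Curv2.IsGloballyGenerated ((Scheme.Modules.pullback I.subschemeι).obj ω) :=
    AmpleX.isGloballyGenerated_of_iso l.symm (GGDesc7.pullback_gg e.hom (gg_twist_line k (by omega)))
  obtain ⟨σ, hσ⟩ := GenLocusGG.exists_mem_locus (PicClLib.isInvertible_pullback I.subschemeι hinv) hgg d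
  haveI := SqZeroMod7.isIso_θ I hI (Synt29.PnEuler.isFinLocFree_of_rank (InvEnd.isFinLocFreeOfRank_one hinv))
  obtain ⟨y, hy⟩ := red_surjective_dualizing hI e he g hg hc hω hinv
    ((Sheaf.H.equiv₀ (Coh.toAb ((SqZeroMod7.push I).obj ((SqZeroMod7.pull I).obj ω))) isTerminalTop).symm
      ((SqZeroMod7.θ I ω).app ⊤ σ))
  let s : Γ(ω, ⊤) := Sheaf.H.equiv₀ (Coh.toAb ω) isTerminalTop y
  have h1 : ((SqZeroMod7.red I).app ω).app ⊤ s = (SqZeroMod7.θ I ω).app ⊤ σ :=
    (Sheaf.H.equiv₀_naturality isTerminalTop ((QCoh.toAbFunctor C).map ((SqZeroMod7.red I).app ω)) y).trans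
      ((congrArg _ hy).trans (AddEquiv.apply_symm_apply _ _))
  rw [← SqZeroMod7.unit_θ I ω] at h1
  have h2 : (show Γ((Scheme.Modules.pullback I.subschemeι).obj ω, ⊤) from InvX.pullElt I.subschemeι (U := ⊤) s) = σ :=
    ((ConcreteCategory.isIso_iff_bijective _).1
      (Scheme.Modules.Hom.isIso_iff_isIso_app.1 (inferInstanceAs (IsIso (SqZeroMod7.θ I ω))) ⊤)).1
      (show (SqZeroMod7.θ I ω).app ⊤ _ = (SqZeroMod7.θ I ω).app ⊤ σ from h1)
  exact ⟨s, by
    have h3 : d ∈ I.subschemeι ⁻¹ᵁ locus s := by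
      rw [← TrivBasic.locus_pullElt hinv I.subschemeι s, h2]
      exact hσ
    exact h3⟩

end Groth.Agent.Ribbon18
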