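import Groth.Agent.Ribbon18.Gen
import Groth.Agent.GrLib8.PicH1.Seq
import Groth.Agent.H23.PicMul
import Groth.Agent.Synt29.PnRigid
import Groth.Agent.Lib.CurvePsi
import Groth.Agent.Snapper.DimVanish

/-!
The Picard group of a ribbon over the line.
-/

set_option autoImplicit false
set_option linter.style.haveILetI false
set_option linter.unusedSectionVars false
set_option backward.isDefEq.respectTransparency false
set_option backward.isDefEq.respectTransparency.types false
set_option maxHeartbeats 1000000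

universe u

open CategoryTheory CategoryTheory.Limits AlgebraicGeometry TopologicalSpace Opposite

noncomputable section

namespace Groth.Agent.Ribbon18

open Groth.Agent

/-- A split extension of `ℤ`. -/
theorem exists_addEquiv_prod {A B : Type*} [AddCommGroup A] [AddCommGroup B] (f : A →+ ℤ)
    (hf : Function.Surjective f) (κ : f.ker ≃+ B) : ∃ φ : A ≃+ B × ℤ, ∀ a, (φ a).2 = f a := by
  obtain ⟨a₁, ha₁⟩ := hf 1
  have hmem : ∀ a, a - f a • a₁ ∈ f.ker := fun a => by
    rw [AddMonoidHom.mem_ker, map_sub, map_zsmul, ha₁, smul_eq_mul, mul_one, sub_self]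
  refine ⟨{ toFun := fun a => (κ ⟨_, hmem a⟩, f a)
            invFun := fun p => (κ.symm p.1).1 + p.2 • a₁
            left_inv := fun a => by simp
            right_inv := fun p => ?_
            map_add' := fun a b => ?_ }, fun a => rfl⟩
  · have hf1 : f ((κ.symm p.1).1 + p.2 • a₁) = p.2 := by
      rw [map_add, AddMonoidHom.mem_ker.1 (κ.symm p.1).2, map_zsmul, ha₁, smul_eq_mul, mul_one, zero_add]
    refine Prod.ext ((congrArg κ (Subtype.ext ?_)).trans (κ.apply_symm_apply p.1)) hf1
    show (κ.symm p.1).1 + p.2 • a₁ - f ((κ.symm p.1).1 + p.2 • a₁) • a₁ = _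
    rw [hf1, add_sub_cancel_right]
  · refine Prod.ext ?_ (map_add f a b)
    show κ _ = κ _ + κ _
    rw [← map_add]
    refine congrArg κ (Subtype.ext ?_)
    show a + b - f (a + b) • a₁ = (a - f a • a₁) + (b - f b • a₁)
    rw [map_add, add_zsmul]
    abel

variable {k : Type u} [Field k] {C : Scheme.{u}} [C.Over (Spec (CommRingCat.of k))] [IsProper (C ↘ Spec (CommRingCat.of k))]
  {I : C.IdealSheafData} (hI : I ^ 2 = ⊥) (e : I.subscheme ≅ CohB1.ProjSpace 1 k)
  (he : e.hom ≫ CohB1.ProjSpace.toSpec 1 k = I.subschemeι ≫ (C ↘ Spec (CommRingCat.of k)))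

/-- The structure of the reduced curve over the field. -/
abbrev redOver : I.subscheme.Over (Spec (CommRingCat.of k)) := ⟨I.subschemeι ≫ (C ↘ Spec (CommRingCat.of k))⟩

include he in
theorem euler_red_twist {N : I.subscheme.Modules} (a : ℤ)
    (τ : N ≅ (Scheme.Modules.pullback e.hom).obj (Twist.twistProjSpace 1 k a)) :
    @Curv2.euler k _ I.subscheme redOver N = a + 1 := by
  letI : I.subscheme.Over (Spec (CommRingCat.of k)) := redOver
  haveI : IsProper (I.subscheme ↘ Spec (CommRingCat.of k)) :=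
    inferInstanceAs (IsProper (I.subschemeι ≫ (C ↘ Spec (CommRingCat.of k))))
  have hinv : e.inv ≫ (I.subscheme ↘ Spec (CommRingCat.of k)) = (CohB1.ProjSpace 1 k) ↘ Spec (CommRingCat.of k) := by
    show e.inv ≫ I.subschemeι ≫ (C ↘ Spec (CommRingCat.of k)) = _
    rw [← he, Iso.inv_hom_id_assoc]
    rfl
  rw [CurveCohLib.euler_congr (k := k) (τ ≪≫ (pullbackIsoPush e).app _)]
  exact (Pic13Lib.euler_push (k := k) e.inv hinv
    (ProjUPX.isQCoh_of_isInvertible (CurveCover.isInvertible_twist k a))).trans (euler_twist_line k a)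

include he in
theorem deg_red_twist {N : I.subscheme.Modules} (a : ℤ)
    (τ : N ≅ (Scheme.Modules.pullback e.hom).obj (Twist.twistProjSpace 1 k a)) :
    @Curv2.deg k _ I.subscheme redOver N 1 = a := by
  obtain ⟨b⟩ := PicClLib.nonempty_pullback_structureModule e.hom
  haveI := PnCoh.Finite.isIso_oneHom (𝒜 := CohB1.polyGrading 1 k)
    (fun j : ULift.{u} (Fin (1 + 1)) => MvPolynomial.X j.down) (fun j => ProjPt.X_mem j.down) (by
      refine top_le_iff.1 ((AmpleEmbed.iSup_basicOpen_X 1 k).ge.trans (iSup_le fun j => ?_))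
      exact le_iSup_of_le (ULift.up j) le_rfl)
  unfold Curv2.deg
  rw [euler_red_twist e he a τ, euler_red_twist e he 0 (b.symm ≪≫ (Scheme.Modules.pullback e.hom).mapIso
    (asIso (PnCoh.Finite.oneHom (𝒜 := CohB1.polyGrading 1 k))))]
  push_cast
  ring

include e in
theorem exists_red_iso_twist {N : I.subscheme.Modules} (hN : PicF.IsInvertible N) :
    ∃ m : ℤ, Nonempty (N ≅ (Scheme.Modules.pullback e.hom).obj (Twist.twistProjSpace 1 k m)) := by
  obtain ⟨m, ⟨a⟩⟩ := SeesawX.PicPn.exists_iso_twist (n := 1) (R := k) _ (PicClLib.isInvertible_pullback e.inv hN)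
  exact ⟨m, ⟨((Scheme.Modules.pullbackId _).app _).symm ≪≫
    (Scheme.Modules.pullbackCongr e.hom_inv_id.symm).app _ ≪≫
    ((Scheme.Modules.pullbackComp e.hom e.inv).app _).symm ≪≫ (Scheme.Modules.pullback e.hom).mapIso a⟩⟩

include e he in
/-- The degree on the Picard group of the reduced curve. -/
theorem exists_degree_red [PicGrp.Law I.subscheme] :
    ∃ d : Additive (PicLoc.PicSet I.subscheme) ≃+ ℤ, ∀ (N : I.subscheme.Modules) (hN : PicF.IsInvertible N),
      d (Additive.ofMul (PicGrp.cls N hN)) = @Curv2.deg k _ I.subscheme redOver N 1 := by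
  letI : I.subscheme.Over (Spec (CommRingCat.of k)) := redOver
  haveI : IsProper (I.subscheme ↘ Spec (CommRingCat.of k)) :=
    inferInstanceAs (IsProper (I.subschemeι ≫ (C ↘ Spec (CommRingCat.of k))))
  haveI := CurveCohLib.isNoetherian_of_proper (k := k) (X := I.subscheme)
  have hdim : topologicalKrullDim I.subscheme ≤ 1 := by
    rw [(Scheme.homeoOfIso e).isHomeomorph.topologicalKrullDim_eq]
    exact (CurveCover.dim_line k).le
  have hrep : ∀ c : PicLoc.PicSet I.subscheme, ∃ (N : I.subscheme.Modules) (hN : PicF.IsInvertible N), PicGrp.cls N hN = c := by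
    rintro ⟨c, N, hc, hN⟩
    exact ⟨N, hN, Subtype.ext hc⟩
  choose M hM hMc using hrep
  have hcong : ∀ (N : I.subscheme.Modules) (hN : PicF.IsInvertible N),
      Curv2.deg k I.subscheme (M (PicGrp.cls N hN)) 1 = Curv2.deg k I.subscheme N 1 := fun N hN => by
    obtain ⟨i⟩ := (PicGrp.cls_eq_cls_iff (hM _) hN).1 (hMc (PicGrp.cls N hN))
    unfold Curv2.deg
    rw [CurveCohLib.euler_congr (k := k) i]
  let d₀ : Additive (PicLoc.PicSet I.subscheme) →+ ℤ :=
    AddMonoidHom.mk' (fun c => Curv2.deg k I.subscheme (M (Additive.toMul c)) 1) fun a b => by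
      have hab : PicGrp.cls (CohB1.tensorMod (M (Additive.toMul a)) (M (Additive.toMul b)))
          (H23.PicMul.isInvertible_tensor (hM _) (hM _)) = Additive.toMul (a + b) := by
        refine Eq.trans (Subtype.ext ?_) (congr_arg₂ (· * ·) (hMc _) (hMc _))
        exact (PicGrp.cls_mul_cls_val _ _).symm
      show Curv2.deg k I.subscheme (M (Additive.toMul (a + b))) 1 = _
      rw [← hab, hcong]
      have h := CurvePsi.deg_tensor_locFree k hdim (InvEnd.isFinLocFreeOfRank_one (hM (Additive.toMul a)))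
        (InvEnd.isFinLocFreeOfRank_one (hM (Additive.toMul b)))
      rw [Nat.cast_one, _root_.one_mul, _root_.one_mul, _root_.one_mul, add_comm] at h
      exact h
  refine ⟨AddEquiv.ofBijective d₀ ⟨fun a b hab => ?_, fun m => ?_⟩, fun N hN => hcong N hN⟩
  · obtain ⟨m, ⟨α⟩⟩ := exists_red_iso_twist e (hM (Additive.toMul a))
    obtain ⟨n, ⟨β⟩⟩ := exists_red_iso_twist e (hM (Additive.toMul b))
    have hmn : m = n := (deg_red_twist e he m α).symm.trans (hab.trans (deg_red_twist e he n β))
    subst hmn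
    exact Additive.toMul.injective ((hMc _).symm.trans
      (((PicGrp.cls_eq_cls_iff (hM _) (hM _)).2 ⟨α ≪≫ β.symm⟩).trans (hMc _)))
  · refine ⟨Additive.ofMul (PicGrp.cls _ (PicClLib.isInvertible_pullback e.hom (CurveCover.isInvertible_twist k m))), ?_⟩
    exact (hcong _ (PicClLib.isInvertible_pullback e.hom (CurveCover.isInvertible_twist k m))).trans (deg_red_twist e he m (Iso.refl _))

include hI e he in
/-- The Picard group of a ribbon. -/
theorem exists_pic (g : ℕ)
    (hc : Nonempty ((Scheme.Modules.pullback I.subschemeι).obj (ClSub.idealMod I) ≅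
      (Scheme.Modules.pullback e.hom).obj (Twist.twistProjSpace 1 k (-((g : ℤ) + 1))))) [PicGrp.Law C] :
    Module.finrank k (Coh.HH C (ClSub.idealMod I) 1) = g ∧
    ∃ φ : Additive (PicLoc.PicSet C) ≃+ Coh.HH C (ClSub.idealMod I) 1 × ℤ,
      ∀ (L : C.Modules) (hL : PicF.IsInvertible L),
        (φ (Additive.ofMul (PicGrp.cls L hL))).2 =
          @Curv2.deg k _ I.subscheme redOver ((Scheme.Modules.pullback I.subschemeι).obj L) 1 := by
  haveI := CurveCohLib.isNoetherian_of_proper (k := k) (X := C)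
  haveI : C.IsSeparated := ⟨by
    rw [← terminal.comp_from (C ↘ Spec (CommRingCat.of k))]
    infer_instance⟩
  have hI' : I * I = ⊥ := by rw [← pow_two]; exact hI
  obtain ⟨c⟩ := hc
  haveI := SqZeroMod7.isIso_unit_idealMod I hI
  obtain ⟨a⟩ := nonempty_hh_push e he _ c 1
  refine ⟨?_, ?_⟩
  · refine ((CurveCohLib.hhEquiv (k := k) (asIso ((SqZeroMod7.adj I).unit.app (ClSub.idealMod I))) 1) ≪≫ₗ a).finrank_eq.trans ?_
    haveI := CurveCover.isProper_line k
    have h := euler_twist_line k (-((g : ℤ) + 1))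
    rw [NefH1.euler_eq k (CurveCover.dim_line k).le (ProjUPX.isQCoh_of_isInvertible (CurveCover.isInvertible_twist k _))] at h
    haveI := S0844.result k 1 (-((g : ℤ) + 1)) 0 (fun h => absurd h.2 (by omega)) (fun h => absurd h.1.symm one_ne_zero)
    rw [Module.finrank_zero_of_subsingleton (M := Coh.HH (CohB1.ProjSpace 1 k) (Twist.twistProjSpace 1 k (-((g : ℤ) + 1))) 0)] at h
    omega
  letI : PicGrp.Law I.subscheme := H23.PicMul.law I.subscheme
  have hi := H23.PicMul.pullMul I.subschemeι
  obtain ⟨d, hd⟩ := exists_degree_red e he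
  have hsurj : Function.Surjective I.subschemeι.appTop.hom := fun v => by
    obtain ⟨b, hb⟩ := Synt29.PnRigid.toGlobal_surjective 1 k (e.inv.appTop.hom v)
    refine ⟨Coh.toGlobal (C ↘ Spec (CommRingCat.of k)) b, ?_⟩
    have hinj : Function.Injective e.inv.appTop.hom :=
      ((ConcreteCategory.isIso_iff_bijective e.inv.appTop).1 inferInstance).1
    refine hinj (Eq.trans ?_ hb)
    show (I.subschemeι.appTop ≫ e.inv.appTop) ((C ↘ Spec (CommRingCat.of k)).appTop ((Scheme.ΓSpecIso _).inv b)) = _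
    rw [← Scheme.Hom.comp_appTop]
    show ((C ↘ Spec (CommRingCat.of k)).appTop ≫ (e.inv ≫ I.subschemeι).appTop) ((Scheme.ΓSpecIso _).inv b) = _
    rw [← Scheme.Hom.comp_appTop, Category.assoc, ← he, Iso.inv_hom_id_assoc]
    rfl
  obtain ⟨κ⟩ := GrLib8.PicH1.nonempty_ker_mulEquiv C I hI' hi hsurj
  obtain ⟨ε, δ₀, α, δ₁, -, -, -, -, -, h6⟩ := GrLib8.PicH1.exists_exact C I hI' hi
  haveI : Subsingleton (Coh.HH C (ClSub.idealMod I) 2) :=
    Snapper.subsingleton_HH_of_dim_le (X := C) (d := 1) (dim_eq_one hI e).le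
      (QCoh.isQCoh_kernel QCoh.isQCoh_structureModule (QCoh.isQCoh_pushforward I.subschemeι QCoh.isQCoh_structureModule) _)
      one_lt_two
  let f : Additive (PicLoc.PicSet C) →+ ℤ := d.toAddMonoidHom.comp (PicGrp.pullHom I.subschemeι hi).toAdditive
  have hf : Function.Surjective f := fun m => by
    obtain ⟨b, hb⟩ := d.surjective m
    obtain ⟨x, hx⟩ : Additive.toMul b ∈ (PicGrp.pullHom I.subschemeι hi).range := by
      rw [← h6, MonoidHom.mem_ker]
      exact Subsingleton.elim (α := Coh.HH C (ClSub.idealMod I) 2) _ _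
    exact ⟨Additive.ofMul x, (congrArg d (congrArg Additive.ofMul hx)).trans hb⟩
  have hker : ∀ x, x ∈ f.ker ↔ Additive.toMul x ∈ (PicGrp.pullHom I.subschemeι hi).ker := fun x =>
    ⟨fun h => Additive.ofMul.injective ((d.map_eq_zero_iff).1 h), fun h => (d.map_eq_zero_iff).2 (congrArg Additive.ofMul h)⟩
  let κ' : f.ker ≃+ Coh.HH C (ClSub.idealMod I) 1 :=
    { toFun := fun x => Multiplicative.toAdd (κ ⟨Additive.toMul x.1, (hker x.1).1 x.2⟩)
      invFun := fun y => ⟨Additive.ofMul (κ.symm (Multiplicative.ofAdd y)).1, (hker _).2 (κ.symm (Multiplicative.ofAdd y)).2⟩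
      left_inv := fun x => Subtype.ext (by simp)
      right_inv := fun y => by simp
      map_add' := fun x y => by
        show Multiplicative.toAdd (κ (⟨Additive.toMul x.1, (hker x.1).1 x.2⟩ * ⟨Additive.toMul y.1, (hker y.1).1 y.2⟩)) = _
        rw [map_mul]
        rfl }
  obtain ⟨φ, hφ⟩ := exists_addEquiv_prod f hf κ'
  refine ⟨φ, fun L hL => (hφ _).trans ?_⟩
  exact (congrArg d (congrArg Additive.ofMul (PicGrp.pullHom_cls I.subschemeι hi L hL))).trans (hd _ _)

end Groth.Agent.Ribbon18
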