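import Groth.Agent.Ribbon18.Gen
import Groth.Agent.CurveDual.Dual
import Groth.Agent.ExistEasy.PP.PullSec
import Groth.Agent.FComplLib.KrullSupp
import Groth.Agent.SeesawX.Basic

/-!
The dualizing module of a split ribbon.
-/

set_option autoImplicit false
set_option linter.style.haveILetI false
set_option linter.unusedSectionVars false
set_option backward.isDefEq.respectTransparency false
set_option backward.isDefEq.respectTransparency.types false
set_option maxHeartbeats 1000000

universe u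

open CategoryTheory CategoryTheory.Limits AlgebraicGeometry TopologicalSpace Opposite
open Groth.Agent.PnCoh.Finite (mapLin)

noncomputable section

namespace Groth.Agent.Ribbon18

open Groth.Agent

/-- Sections pulled back along a map with a one-sided inverse up to isomorphism fill the restriction. -/
theorem pullElt_surjective {D C P : Scheme.{u}} (s : D ⟶ C) (r : C ⟶ P) [IsIso (s ≫ r)] (M : P.Modules) :
    Function.Surjective fun x : Γ((Scheme.Modules.pullback r).obj M, ⊤) =>
      (show Γ((Scheme.Modules.pullback s).obj ((Scheme.Modules.pullback r).obj M), ⊤) from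
        InvX.pullElt s (U := ⊤) x) := by
  intro σ
  haveI : (Scheme.Modules.pushforward (s ≫ r)).IsEquivalence :=
    (CategoryTheory.Equivalence.mk (Scheme.Modules.pushforward (s ≫ r)) (Scheme.Modules.pushforward (inv (s ≫ r)))
      ((Scheme.Modules.pushforwardId _).symm ≪≫ Scheme.Modules.pushforwardCongr (IsIso.hom_inv_id (s ≫ r)).symm ≪≫
        (Scheme.Modules.pushforwardComp (s ≫ r) (inv (s ≫ r))).symm)
      (Scheme.Modules.pushforwardComp (inv (s ≫ r)) (s ≫ r) ≪≫ Scheme.Modules.pushforwardCongr (IsIso.inv_hom_id (s ≫ r)) ≪≫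
        Scheme.Modules.pushforwardId _)).isEquivalence_functor
  haveI : (Scheme.Modules.pullback (s ≫ r)).IsEquivalence :=
    (Scheme.Modules.pullbackPushforwardAdjunction (s ≫ r)).isEquivalence_left_of_isEquivalence_right
  have hu : IsIso ((Scheme.Modules.pullbackPushforwardAdjunction (s ≫ r)).unit.app M) := inferInstance
  have hcmp : IsIso ((Scheme.Modules.pullbackComp s r).hom.app M) := inferInstance
  obtain ⟨a, ha⟩ := ((ConcreteCategory.isIso_iff_bijective _).1
    (Scheme.Modules.Hom.isIso_iff_isIso_app.1 hu ⊤)).2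
    (((Scheme.Modules.pullbackComp s r).hom.app M).app ⊤ σ)
  refine ⟨QCoh.pullSec r M (le_refl (r ⁻¹ᵁ ⊤)) a, ?_⟩
  refine ((ConcreteCategory.isIso_iff_bijective _).1
    (Scheme.Modules.Hom.isIso_iff_isIso_app.1 hcmp ⊤)).1 ?_
  refine Eq.trans ?_ ha
  refine Eq.trans ?_ ((ExistEasy.pullSec_comp s r M (le_refl (r ⁻¹ᵁ ⊤)) (le_refl (s ⁻¹ᵁ (r ⁻¹ᵁ ⊤))) a).trans
    (AModX.res_self _))
  exact congrArg (((Scheme.Modules.pullbackComp s r).hom.app M).app ⊤) (AModX.res_self _).symm

variable (k : Type u) [Field k]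

/-- `h¹(O(-2)) = 1` on the line. -/
theorem finrank_h1_twist_neg_two {a : ℤ} (ha : a = -2) :
    Module.finrank k (Coh.HH (CohB1.ProjSpace 1 k) (Twist.twistProjSpace 1 k a) 1) = 1 := by
  haveI := CurveCover.isProper_line k
  have h := euler_twist_line k a
  rw [NefH1.euler_eq k (CurveCover.dim_line k).le (ProjUPX.isQCoh_of_isInvertible (CurveCover.isInvertible_twist k a))] at h
  haveI := S0844.result k 1 a 0 (fun h => absurd h.2 (by omega)) (fun h => absurd h.1.symm one_ne_zero)
  rw [Module.finrank_zero_of_subsingleton (M := Coh.HH (CohB1.ProjSpace 1 k) (Twist.twistProjSpace 1 k a) 0)] at h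
  omega

variable {k}

/-- A non-zero map between invertible modules restricting to the same twist is invertible. -/
theorem isIso_of_ne_zero_twist {D : Scheme.{u}} (e : D ≅ CohB1.ProjSpace 1 k) {A B : D.Modules} (a : ℤ)
    (α : A ≅ (Scheme.Modules.pullback e.hom).obj (Twist.twistProjSpace 1 k a))
    (β : B ≅ (Scheme.Modules.pullback e.hom).obj (Twist.twistProjSpace 1 k a))
    (φ : A ⟶ B) (hφ : φ ≠ 0) : IsIso φ := by
  haveI := CurveCover.isProper_line k
  haveI := CurveCover.isIntegral_line k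
  haveI : (Scheme.Modules.pullback e.hom).IsEquivalence := by
    haveI : (Scheme.Modules.pushforward e.hom).IsEquivalence :=
      (CategoryTheory.Equivalence.mk (Scheme.Modules.pushforward e.hom) (Scheme.Modules.pushforward e.inv)
        ((Scheme.Modules.pushforwardId _).symm ≪≫ Scheme.Modules.pushforwardCongr e.hom_inv_id.symm ≪≫
          (Scheme.Modules.pushforwardComp e.hom e.inv).symm)
        (Scheme.Modules.pushforwardComp e.inv e.hom ≪≫ Scheme.Modules.pushforwardCongr e.inv_hom_id ≪≫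
          Scheme.Modules.pushforwardId _)).isEquivalence_functor
    exact (Scheme.Modules.pullbackPushforwardAdjunction e.hom).isEquivalence_left_of_isEquivalence_right
  obtain ⟨χ, hχ⟩ := (Scheme.Modules.pullback e.hom).map_surjective (α.inv ≫ φ ≫ β.hom)
  have hne : χ ≠ 0 := fun h => hφ (by
    rw [h, Functor.map_zero] at hχ
    rw [← cancel_epi α.inv, ← cancel_mono β.hom, Category.assoc, ← hχ]
    simp)
  haveI := (CurveDeg.deg_le_and_isIso k (CurveCover.dim_line k).le (CurveCover.isInvertible_twist k a)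
    (CurveCover.isInvertible_twist k a) χ hne).2 rfl
  have h : φ = α.hom ≫ (Scheme.Modules.pullback e.hom).map χ ≫ β.inv := by rw [hχ]; simp
  rw [h]
  infer_instance

variable {C : Scheme.{u}} [C.Over (Spec (CommRingCat.of k))] [IsProper (C ↘ Spec (CommRingCat.of k))]
  {I : C.IdealSheafData} (hI : I ^ 2 = ⊥) (e : I.subscheme ≅ CohB1.ProjSpace 1 k)
  (he : e.hom ≫ CohB1.ProjSpace.toSpec 1 k = I.subschemeι ≫ (C ↘ Spec (CommRingCat.of k)))

include hI in
/-- A map vanishing on the reduction kills the nilpotent part. -/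
theorem comp_eq_zero_of_pull_eq_zero {E F : C.Modules} (hE : FlatMod.IsFinLocFree E) (hF : FlatMod.IsFinLocFree F)
    {κ : (SqZeroMod7.push I).obj (SqZeroMod7.coef I E) ⟶ E} (w : κ ≫ (SqZeroMod7.red I).app E = 0)
    (d : E ⟶ F) (hd : (SqZeroMod7.pull I).map d = 0) : κ ≫ d = 0 := by
  obtain ⟨κ', w', hS⟩ := SqZeroMod7.exists_shortExact I hI (QCoh.isFlat_and_isFP_iff.2 hF).1
  haveI := hS.mono_f
  haveI := SqZeroMod7.isIso_θ I hI hE
  have hz : d ≫ (SqZeroMod7.red I).app F = 0 := by
    refine ((SqZeroMod7.red I).naturality d).trans ?_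
    show (SqZeroMod7.red I).app E ≫ (SqZeroMod7.push I).map ((SqZeroMod7.pull I).map d) = 0
    rw [hd, Functor.map_zero, comp_zero]
  let a := hS.exact.lift d hz
  have ha : a ≫ κ' = d := hS.exact.lift_f _ _
  have e : a = (SqZeroMod7.red I).app E ≫ (SqZeroMod7.push I).map (inv (SqZeroMod7.θ I E) ≫
      ((SqZeroMod7.adj I).homEquiv _ _).symm a) := by
    refine Eq.trans ?_ (congrArg (· ≫ (SqZeroMod7.push I).map (inv (SqZeroMod7.θ I E) ≫
      ((SqZeroMod7.adj I).homEquiv _ _).symm a)) (SqZeroMod7.unit_θ I E))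
    rw [Category.assoc, ← Functor.map_comp, IsIso.hom_inv_id_assoc]
    exact (((SqZeroMod7.adj I).homEquiv _ _).apply_symm_apply a).symm.trans (Adjunction.homEquiv_unit _ _ _ _)
  rw [← ha, ← Category.assoc, e, ← Category.assoc, w, zero_comp, zero_comp]

include hI he in
/-- The dualizing module of a split ribbon is pulled back from the line. -/
theorem dualizing_iso_of_split (g : ℕ)
    (hc : Nonempty ((Scheme.Modules.pullback I.subschemeι).obj (ClSub.idealMod I) ≅
      (Scheme.Modules.pullback e.hom).obj (Twist.twistProjSpace 1 k (-((g : ℤ) + 1)))))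
    (r : C ⟶ I.subscheme) (hr : I.subschemeι ≫ r = 𝟙 I.subscheme)
    {ω : C.Modules} {t : Coh.HH C ω 1 →ₗ[k] k} (hω : Canon.IsRDualOver k C 1 ω t) (hinv : PicF.IsInvertible ω) :
    Nonempty (ω ≅ (Scheme.Modules.pullback (r ≫ e.hom)).obj (Twist.twistProjSpace 1 k ((g : ℤ) - 1))) := by
  haveI := CurveCohLib.isNoetherian_of_proper (k := k) (X := C)
  haveI : Surjective I.subschemeι := ⟨GrLib8.PicH1.surjective_subschemeι (I := I) (by rw [← pow_two]; exact hI)⟩
  let O := Twist.twistProjSpace 1 k ((g : ℤ) - 1)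
  let N := (Scheme.Modules.pullback (r ≫ e.hom)).obj O
  have hN : PicF.IsInvertible N := PicClLib.isInvertible_pullback _ (CurveCover.isInvertible_twist k _)
  have hlf : ∀ {M : C.Modules}, PicF.IsInvertible M → FlatMod.IsFinLocFree M := fun {M} hM =>
    Synt29.PnEuler.isFinLocFree_of_rank (InvEnd.isFinLocFreeOfRank_one hM)
  have hre : I.subschemeι ≫ r ≫ e.hom = e.hom := by rw [← Category.assoc, hr, Category.id_comp]
  let ν : (Scheme.Modules.pullback I.subschemeι).obj N ≅ (Scheme.Modules.pullback e.hom).obj O :=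
    (Scheme.Modules.pullbackComp I.subschemeι (r ≫ e.hom)).app O ≪≫ (Scheme.Modules.pullbackCongr hre).app O
  obtain ⟨l⟩ := restrict_dualizing hI e he g hc hω hinv
  obtain ⟨κ, w, hS, ⟨τ⟩⟩ := exists_seq hI e he g hc hN _ ⟨ν⟩
  -- sections lift
  haveI : IsIso (I.subschemeι ≫ r ≫ e.hom) := by rw [hre]; infer_instance
  haveI := SqZeroMod7.isIso_θ I hI (hlf hN)
  have hsurj : Function.Surjective (mapLin k ((SqZeroMod7.red I).app N) 0) := fun y => by
    have hθ : IsIso (SqZeroMod7.θ I N) := inferInstance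
    obtain ⟨σ, hσ⟩ := ((ConcreteCategory.isIso_iff_bijective _).1
      (Scheme.Modules.Hom.isIso_iff_isIso_app.1 hθ ⊤)).2
      (show Γ((Scheme.Modules.pullback I.subschemeι).obj N, ⊤) from
        Sheaf.H.equiv₀ (Coh.toAb ((SqZeroMod7.push I).obj ((SqZeroMod7.pull I).obj N))) isTerminalTop y)
    obtain ⟨s, hs⟩ := pullElt_surjective I.subschemeι (r ≫ e.hom) O σ
    refine ⟨(Sheaf.H.equiv₀ (Coh.toAb N) isTerminalTop).symm s, (Sheaf.H.equiv₀ _ isTerminalTop).injective ?_⟩
    refine (Sheaf.H.equiv₀_naturality isTerminalTop ((QCoh.toAbFunctor C).map ((SqZeroMod7.red I).app N)) _).symm.trans ?_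
    refine (congrArg (((SqZeroMod7.red I).app N).app ⊤) (AddEquiv.apply_symm_apply _ _)).trans ?_
    rw [← SqZeroMod7.unit_θ I N]
    exact (congrArg ((SqZeroMod7.θ I N).app ⊤) hs).trans hσ
  obtain ⟨a⟩ := nonempty_hh_push e he _ τ 1
  have hf1 : Module.finrank k (Coh.HH C ((SqZeroMod7.push I).obj (SqZeroMod7.coef I N)) 1) = 1 :=
    a.finrank_eq.trans (finrank_h1_twist_neg_two k (by ring))
  have hinj : Function.Injective (mapLin k κ 1) := by
    rw [← LinearMap.ker_eq_bot, eq_bot_iff]
    intro x hx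
    obtain ⟨z, hz⟩ := (CurveCohLib.ker_mapLin_f_succ k hS 0).le hx
    obtain ⟨z', hz'⟩ := hsurj z
    rw [Submodule.mem_bot, ← hz]
    exact LinearMap.mem_ker.1 ((CurveCohLib.ker_deltaLin k hS 0).ge ⟨z', hz'⟩)
  haveI : Nontrivial (Coh.HH C ((SqZeroMod7.push I).obj (SqZeroMod7.coef I N)) 1) :=
    Module.nontrivial_of_finrank_eq_succ hf1
  obtain ⟨y, hy⟩ := exists_ne (0 : Coh.HH C ((SqZeroMod7.push I).obj (SqZeroMod7.coef I N)) 1)
  obtain ⟨φ, hφ⟩ := CurveDual.exists_hom_ne hω (ProjUPX.isQCoh_of_isInvertible hN)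
    (x := mapLin k κ 1 y) fun h => hy (hinj (h.trans (map_zero _).symm))
  have hpφ : (SqZeroMod7.pull I).map φ ≠ 0 := fun h => hφ (by
    have h0 := comp_eq_zero_of_pull_eq_zero hI (hlf hN) (hlf hinv) w φ h
    rw [CurveDual.HHlin_apply]
    refine Eq.trans (congrArg t ?_) (map_zero t)
    show Sheaf.H.map _ 1 (Sheaf.H.map _ 1 y) = 0
    rw [← Sheaf.H.map_comp_apply, ← Functor.map_comp, h0, Functor.map_zero]
    show ((Sheaf.functorH _ 1).map (0 : Coh.toAb _ ⟶ Coh.toAb ω)).hom y = 0
    rw [Functor.map_zero]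
    rfl)
  haveI := isIso_of_ne_zero_twist e _ ν l _ hpφ
  haveI : Epi ((Scheme.Modules.pullback I.subschemeι).map φ) := inferInstanceAs (Epi ((SqZeroMod7.pull I).map φ))
  haveI : Epi φ := FComplLib.epi_of_epi_pullback I.subschemeι (ProjUPX.isQCoh_of_isInvertible hN)
    (ProjUPX.isQCoh_of_isInvertible hinv) (CurveDeg.isCoh_of_isInvertible hinv).2 φ
  haveI : IsIso φ := SeesawX.isIso_of_epi_rank (InvEnd.isFinLocFreeOfRank_one hN) (InvEnd.isFinLocFreeOfRank_one hinv) φ
  exact ⟨(asIso φ).symm⟩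

end Groth.Agent.Ribbon18
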